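import Groth.Agent.Lib.CartanT21.Main
import Groth.Agent.Lib.MTRigid29.CentralSubDesc

/-!
# Reductive centres descend along fpqc coverings
-/

set_option autoImplicit false
set_option linter.style.haveILetI false
set_option linter.unusedSectionVars false
set_option backward.isDefEq.respectTransparency.types false

universe u

open CategoryTheory Limits MonoidalCategory CartesianMonoidalCategory MonObj AlgebraicGeometry Opposite

noncomputable section

namespace Groth.Agent.RedCentre21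

open DiagGL MTRigid29

variable {S : Scheme.{u}} {G : Over S} [GrpObj G]

/-- A homomorphism with central image. -/
def Central {H : Over S} (v : H ⟶ G) : Prop :=
  ∀ (X : Over S) (x : X ⟶ H) (g : X ⟶ G), (x ≫ v) * g = g * (x ≫ v)

theorem central_bc {H : Over S} [GrpObj H] {v : H ⟶ G} (h : Central v) {U : Scheme.{u}} (q : U ⟶ S) :
    Central ((Over.pullback q).map v) := fun X x g => by
  apply fl_injective q G
  rw [fl_mul, fl_mul, fl_comp_map]
  exact h _ _ _

theorem central_iso {H G' : Over S} [GrpObj G'] {v : H ⟶ G} (h : Central v) (e : G ≅ G') [IsMonHom e.hom] :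
    Central (v ≫ e.hom) := fun X x g => by
  have h1 := congrArg (· ≫ e.hom) (h X x (g ≫ e.inv))
  simpa only [MonObj.mul_comp, Category.assoc, Iso.inv_hom_id, Category.comp_id] using h1

theorem isMultTypeFT_iso {T T' : Over S} [GrpObj T] [GrpObj T'] (hT : SGA3x.IsMultTypeFT T) (e : T' ≅ T)
    [IsMonHom e.hom] : SGA3x.IsMultTypeFT T' := by
  obtain ⟨S', f, hf, hs, hc, hloc⟩ := hT
  refine ⟨S', f, hf, hs, hc, fun s' => ?_⟩
  obtain ⟨V, hV, M, _, hM, ⟨ψ⟩⟩ := hloc s'
  haveI : IsMonHom ((Over.pullback (V.ι ≫ f)).mapIso e).hom := isMonHom_map e.hom _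
  exact ⟨V, hV, M, inferInstance, hM, ⟨Grp.mkIso' ((Over.pullback (V.ι ≫ f)).mapIso e) ≪≫ ψ⟩⟩

/-- `z` is final among the central homomorphisms from groups of multiplicative type. -/
def Universal {Z : Over S} (z : Z ⟶ G) : Prop :=
  ∀ (S' : Scheme.{u}) (f : S' ⟶ S) (H : Over S') [GrpObj H] (v : H ⟶ Red.bc f G) [IsMonHom v],
    SGA3x.IsMultTypeFT H →
    (∀ (X : Over S') (x : X ⟶ H) (g : X ⟶ Red.bc f G), (x ≫ v) * g = g * (x ≫ v)) →
    ∃ w : H ⟶ Red.bc f Z, w ≫ (Over.pullback f).map z = v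

set_option maxHeartbeats 1000000 in
/-- Points of a central subgroup of multiplicative type lie in the reductive centre. -/
theorem exists_point {S' S'' : Scheme.{u}} (f : S' ⟶ S) {Z' : Over S'} [GrpObj Z'] (z' : Z' ⟶ Red.bc f G)
    (hu : Universal z') (g : S'' ⟶ S) {H : Over S''} [GrpObj H] (v : H ⟶ Red.bc g G) [IsMonHom v]
    (hH : SGA3x.IsMultTypeFT H) (hv : Central v) (Z : Over S')
    (p : (Over.map f).obj Z ⟶ (Over.map g).obj H) : ∃ y : Z ⟶ Z', fl f G (y ≫ z') = p ≫ fl g G v := by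
  let σ : Z.left ⟶ S := Z.hom ≫ f
  let q : Z.left ⟶ S'' := p.left ≫ H.hom
  have hq : q ≫ g = σ := (Category.assoc _ _ _).trans (Over.w p)
  let E := SpreadSub19.bcComp g q hq G
  let E' := SpreadSub19.bcComp f Z.hom (c := σ) rfl G
  haveI : IsMonHom E.hom := SpreadSub19.bcComp_isMonHom g q hq G
  haveI : IsMonHom E'.hom := SpreadSub19.bcComp_isMonHom f Z.hom (c := σ) rfl G
  haveI : IsMonHom E'.symm.hom := inferInstanceAs (IsMonHom E'.inv)
  haveI := isMonHom_map v q
  let vq := ((Over.pullback q).map v ≫ E.hom) ≫ E'.symm.hom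
  have hvq : Central vq := central_iso (central_iso (central_bc hv q) E) E'.symm
  haveI : IsMonHom vq := inferInstanceAs (IsMonHom (((Over.pullback q).map v ≫ E.hom) ≫ E'.symm.hom))
  obtain ⟨w, hw⟩ := hu Z.left Z.hom (Red.bc q H) vq (isMultTypeFT_bc hH q) hvq
  have hw' : w ≫ (Over.pullback Z.hom).map z' ≫ E'.hom = (Over.pullback q).map v ≫ E.hom := by
    rw [← Category.assoc, hw]
    simp [vq]
  let sq : Over.mk (𝟙 Z.left) ⟶ Red.bc q H :=
    Over.homMk (pullback.lift p.left (𝟙 Z.left) (Category.id_comp q).symm) (pullback.lift_snd _ _ _)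
  have hs : (sq ≫ w).left ≫ pullback.snd Z'.hom Z.hom = 𝟙 Z.left := Over.w (sq ≫ w)
  let y : Z ⟶ Z' := Over.homMk ((sq ≫ w).left ≫ pullback.fst Z'.hom Z.hom) (by
    rw [Category.assoc, pullback.condition, ← Category.assoc, hs, Category.id_comp])
  refine ⟨y, Over.OverMorphism.ext ?_⟩
  have hB : ∀ {U V : Scheme.{u}} (h : U ⟶ S) (e : V ⟶ U) {τ : V ⟶ S} (he : e ≫ h = τ) {W : Over U}
      (t : W ⟶ Red.bc h G),
      ((Over.pullback e).map t ≫ (SpreadSub19.bcComp h e he G).hom).left ≫ pullback.fst G.hom τ =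
        pullback.fst W.hom e ≫ t.left ≫ pullback.fst G.hom h := fun h e τ he W t => by
    rw [Over.comp_left, Category.assoc, SpreadSub19.bcComp_fst]
    show pullback.lift _ _ _ ≫ _ = _
    rw [pullback.lift_fst_assoc, Category.assoc]
  have h1 := congrArg (fun m => (sq ≫ m).left ≫ pullback.fst G.hom σ) hw'
  simp only [Over.comp_left, Category.assoc] at h1 hB
  simp only [E, E'] at h1
  rw [hB f Z.hom rfl z', hB g q hq v] at h1
  have hfl : ∀ {U : Scheme.{u}} (h : U ⟶ S) {V : Over U} (x : V ⟶ Red.bc h G),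
      (fl h G x).left = x.left ≫ pullback.fst G.hom h := fun h V x => by
    simp [DiagGL.fl, Adjunction.homEquiv_counit]
  show (fl f G (y ≫ z')).left = p.left ≫ (fl g G v).left
  rw [hfl, hfl, Over.comp_left, Category.assoc]
  show ((sq ≫ w).left ≫ pullback.fst Z'.hom Z.hom) ≫ z'.left ≫ pullback.fst G.hom f = _
  rw [Over.comp_left, Category.assoc, Category.assoc]
  refine h1.trans ?_
  rw [← Category.assoc, show sq.left ≫ pullback.fst H.hom q = p.left from pullback.lift_fst _ _ _]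

set_option maxHeartbeats 1000000 in
/-- A reductive centre given fpqc locally descends. -/
theorem exists_reductiveCentre_of_fpqc {S' : Scheme.{u}} (f : S' ⟶ S) [Flat f] [Surjective f]
    (hcov : ∀ V : S.Opens, IsAffineOpen V → ∃ W : S'.Opens, IsCompact (W : Set S') ∧ f.base '' (W : Set S') = (V : Set S))
    {Z' : Over S'} [GrpObj Z'] (z' : Z' ⟶ Red.bc f G) [IsMonHom z'] [Mono z'] (hZ' : SGA3x.IsMultTypeFT Z')
    (hc : Central z') (hu : Universal z') :
    ∃ (Z : Over S) (_ : GrpObj Z) (z : Z ⟶ G), IsMonHom z ∧ Mono z ∧ SGA3x.IsMultTypeFT Z ∧ Central z ∧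
      Universal z := by
  have hcov' : Presieve.ofArrows (fun _ : PUnit.{u + 1} => S') (fun _ => f) ∈ Scheme.fpqcPrecoverage S := by
    refine ⟨?_, (Scheme.ofArrows_mem_precoverage_iff @Flat).mpr
      ⟨fun s => ⟨PUnit.unit, f.surjective s⟩, fun _ => ‹Flat f›⟩⟩
    refine (Scheme.presieve₀_mem_qcPrecoverage_iff (E := ⟨PUnit, fun _ => S', fun _ => f⟩)).mpr
      ⟨fun {O} hO => ?_⟩
    obtain ⟨W, hW, hWO⟩ := hcov O hO
    exact IsCompactOpenCovered.iff_of_unique.2 ⟨W, hW, hWO⟩
  obtain ⟨A, _, a, ham, hamono, hφA, hfac⟩ :=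
    MTDesc21.exists_descent_family (G := G) (W := fun _ : PUnit.{u + 1} => Z') (fun _ => z') hcov'
      (fun _ => isAffineHom_of_isMT (isMT_of_ft hZ')) (fun _ _ Z p => exists_point f z' hu f z' hZ' hc Z p)
  obtain ⟨φ, hφm, hφ⟩ := hφA PUnit.unit
  haveI := ham
  haveI := hamono
  haveI := hφm
  haveI : IsMonHom φ.symm.hom := inferInstanceAs (IsMonHom φ.inv)
  refine ⟨A, inferInstance, a, ham, hamono, ?_, fun X x g => ?_, fun S'' g H _ v _ hH hv => ?_⟩
  · exact isMultTypeFT_of_bc f hcov A (isMultTypeFT_iso hZ' φ)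
  · have hF : (Over.pullback f).map ((x ≫ a) * g) = (Over.pullback f).map (g * (x ≫ a)) := by
      rw [Functor.map_mul, Functor.map_mul, Functor.map_comp, ← hφ, ← Category.assoc]
      exact hc _ _ _
    refine Over.OverMorphism.ext ?_
    haveI : Surjective (pullback.fst X.hom f) := inferInstance
    haveI : Flat (pullback.fst X.hom f) := inferInstance
    haveI : Epi (pullback.fst X.hom f) := Flat.epi_of_flat_of_surjective _
    rw [← cancel_epi (pullback.fst X.hom f), (isPullback_map_left f ((x ≫ a) * g)).w,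
      (isPullback_map_left f (g * (x ≫ a))).w, hF]
  · obtain ⟨b, hb⟩ := hfac (fl g G v) fun _ Z p => exists_point f z' hu g v hH hv Z p
    obtain ⟨w, rfl⟩ := fl_surjective g A b
    exact ⟨w, fl_injective g G (by rw [fl_comp_map, hb])⟩

end Groth.Agent.RedCentre21
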